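/-
Adapter: helper45's claim (N) in `LAmal` form gives the frozen-hypotheses form `ClaimN`
consumed by `s2858_of`.
-/
import Cfsg.Agent.Lib.Helper2.Amal.Top
import Cfsg.Agent.Lib.Helper45.S3Amal.NDefs

set_option autoImplicit false

namespace Cfsg.Agent.Lib.Helper2.Amal

open Cfsg Cfsg.Agent.Lib.Helper71.Sym Cfsg.Agent.Lib.Helper59.Amal

universe u

theorem claimN_of (h : Cfsg.Agent.Lib.Helper45.S3Amal.ClaimN.{u}) : ClaimN.{u} := by
  intro n IH G _ P₁ P₂ _ _ hgen T hT h₁ h₂ h₃ h₄ h₅ hcard hD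
  obtain ⟨hloc, hcore⟩ := lamal_of_frozen P₁ P₂ hgen T hT h₁ h₂ h₃ h₄ h₅
  refine h n IH P₁ P₂ T (Cfsg.pCoreOf 2 P₁) (Cfsg.pCoreOf 2 P₂) (hloc true) (hloc false) ?_
    (le_of_eq hcard) hD
  intro N hNT hN1 hN2
  refine hcore N hNT (fun i => ?_)
  cases i
  · exact hN2
  · exact hN1

end Cfsg.Agent.Lib.Helper2.Amal
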