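/-
Final assembly of claim (N) for S2858 (helper45's `ClaimN`) from the packages of
`Helper45.S3Amal.NDefs` and a relative form of Lemma J.
-/
import Mathlib
import Cfsg.Agent.Lib.Helper45.S3Amal.NDefs
import Cfsg.Agent.Lib.Helper45.S3Amal.LemJ
import Cfsg.Agent.Lib.Helper71.Sym.BWords
import Cfsg.Agent.Lib.Helper72.Sym.CRB

set_option autoImplicit false

namespace Cfsg.Agent.Lib.Helper2.Amal

open Cfsg Cfsg.Agent.Lib.Helper71.Sym Cfsg.Agent.Lib.Helper45.S3Amal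

universe u

variable {G : Type u} [Group G]

/-- `Ω₁(Z(D))`: the central elements of `D` of square `1`. -/
def omZ (D : Subgroup G) : Subgroup G where
  carrier := {v | v ∈ D ∧ (∀ d ∈ D, d * v = v * d) ∧ v * v = 1}
  mul_mem' := by
    rintro a b ⟨ha, hac, ha2⟩ ⟨hb, hbc, hb2⟩
    refine ⟨D.mul_mem ha hb, fun d hd => ?_, ?_⟩
    · rw [← mul_assoc, hac d hd, mul_assoc, hbc d hd, ← mul_assoc]
    · have hab : b * a = a * b := hac b hb
      calc a * b * (a * b) = a * (b * a) * b := by group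
        _ = a * (a * b) * b := by rw [hab]
        _ = (a * a) * (b * b) := by group
        _ = 1 := by rw [ha2, hb2, one_mul]
  one_mem' := ⟨D.one_mem, fun d _ => by rw [mul_one, one_mul], by rw [one_mul]⟩
  inv_mem' := by
    rintro a ⟨ha, hac, ha2⟩
    have hinv : a⁻¹ = a := by
      rw [inv_eq_iff_mul_eq_one]; exact ha2
    rw [hinv]; exact ⟨ha, hac, ha2⟩

theorem mem_omZ {D : Subgroup G} {v : G} :
    v ∈ omZ D ↔ v ∈ D ∧ (∀ d ∈ D, d * v = v * d) ∧ v * v = 1 := Iff.rfl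

theorem omZ_le (D : Subgroup G) : omZ D ≤ D := fun _ hv => hv.1

theorem nz_omZ {H D : Subgroup G} (h : Nz H D) : Nz H (omZ D) := by
  intro x hx v hv
  obtain ⟨hvD, hvc, hv2⟩ := hv
  refine ⟨h x hx v hvD, fun d hd => ?_, ?_⟩
  · have hd' : x⁻¹ * d * x ∈ D := by
      have := h x⁻¹ (H.inv_mem hx) d hd
      rwa [inv_inv] at this
    have e := hvc _ hd'
    calc d * (x * v * x⁻¹) = x * ((x⁻¹ * d * x) * v) * x⁻¹ := by group
      _ = x * (v * (x⁻¹ * d * x)) * x⁻¹ := by rw [e]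
      _ = x * v * x⁻¹ * d := by group
  · calc x * v * x⁻¹ * (x * v * x⁻¹) = x * (v * v) * x⁻¹ := by group
      _ = 1 := by rw [hv2]; group

theorem omZ_cj (g : G) (D : Subgroup G) : omZ (cj g D) = cj g (omZ D) := by
  ext v
  rw [mem_cj, mem_omZ, mem_omZ, mem_cj]
  constructor
  · rintro ⟨h1, h2, h3⟩
    refine ⟨h1, fun d hd => ?_, ?_⟩
    · have hd' : g * d * g⁻¹ ∈ cj g D := conj_mem_cj hd
      have e := h2 _ hd'
      calc d * (g⁻¹ * v * g) = g⁻¹ * ((g * d * g⁻¹) * v) * g := by group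
        _ = g⁻¹ * (v * (g * d * g⁻¹)) * g := by rw [e]
        _ = g⁻¹ * v * g * d := by group
    · calc g⁻¹ * v * g * (g⁻¹ * v * g) = g⁻¹ * (v * v) * g := by group
        _ = 1 := by rw [h3]; group
  · rintro ⟨h1, h2, h3⟩
    refine ⟨h1, fun d hd => ?_, ?_⟩
    · rw [mem_cj] at hd
      have e := h2 _ hd
      calc d * v = g * ((g⁻¹ * d * g) * (g⁻¹ * v * g)) * g⁻¹ := by group
        _ = g * ((g⁻¹ * v * g) * (g⁻¹ * d * g)) * g⁻¹ := by rw [e]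
        _ = v * d := by group
    · have h4 : v * v = g * (g⁻¹ * v * g * (g⁻¹ * v * g)) * g⁻¹ := by group
      rw [h4, h3]; group

theorem nz_of_le_normalizer {H N : Subgroup G} (h : H ≤ Subgroup.normalizer (N : Set G)) :
    Nz H N := by
  intro x hx n hn
  exact (Subgroup.mem_normalizer_iff.mp (h hx) n).mp hn

theorem nz_of_maxT {P T N : Subgroup G} (hTP : T ≤ P)
    (hmax : ∀ K : Subgroup G, T ≤ K → K ≤ P → K = T ∨ K = P) (hT : Nz T N) {x : G}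
    (hxP : x ∈ P) (hxT : x ∉ T) (hx : x ∈ Subgroup.normalizer (N : Set G)) : Nz P N := by
  have hTle : T ≤ P ⊓ Subgroup.normalizer (N : Set G) :=
    le_inf hTP (Cfsg.Agent.Lib.Helper59.Amal.le_normalizer_of_conj_mem hT)
  rcases hmax _ hTle inf_le_left with h | h
  · exfalso
    apply hxT
    rw [← h]
    exact Subgroup.mem_inf.mpr ⟨hxP, hx⟩
  · apply nz_of_le_normalizer
    calc P = P ⊓ Subgroup.normalizer (N : Set G) := h.symm
      _ ≤ Subgroup.normalizer (N : Set G) := inf_le_right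

/-- Relative form of Lemma J (subgroups of an arbitrary group). -/
def LemJRel : Prop := ∀ {G : Type u} [Group G] (L S D D' K A V V' : Subgroup G),
  LAmal L S D → (∃ g ∈ L, cj g S ≠ S) →
  (∀ v : G, v ∈ V ↔ v ∈ D ∧ (∀ d ∈ D, d * v = v * d) ∧ v * v = 1) →
  (∀ x ∈ L, (∀ v ∈ V, x * v = v * x) → x ∈ D) →
  D' ≤ S → Nz S D' →
  (∀ v : G, v ∈ V' ↔ v ∈ D' ∧ (∀ d ∈ D', d * v = v * d) ∧ v * v = 1) →
  (∀ N : Subgroup G, N ≤ L → Nz L N → D ⊓ D' ≤ N → D ≤ N) →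
  K ≤ D → K ≤ D' → Nz L K →
  A ≤ S → Cfsg.IsElementaryAbelian 2 A →
  (∀ B : Subgroup G, B ≤ S → Cfsg.IsElementaryAbelian 2 B → Nat.card ↥B ≤ Nat.card ↥A) →
  ¬ A ≤ D → (A ⊓ D) ⊔ V ≤ K → V' ≤ V

/-- `|Q₂| = 2 |Q₁ ⊓ Q₂|` for two distinct subgroups of index `2`. -/
theorem card_eq_two_mul_inf {T Q₁ Q₂ : Subgroup G} [Finite ↥T] (h1 : Q₁ ≤ T) (h2 : Q₂ ≤ T)
    (hc1 : Nat.card ↥T = 2 * Nat.card ↥Q₁) (hc2 : Nat.card ↥T = 2 * Nat.card ↥Q₂) (hne : Q₂ ≠ Q₁) :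
    Nat.card ↥Q₂ = 2 * Nat.card ↥(Q₁ ⊓ Q₂) := by
  haveI : Finite ↥Q₁ := Finite.of_injective _ (Subgroup.inclusion_injective h1)
  haveI : Finite ↥Q₂ := Finite.of_injective _ (Subgroup.inclusion_injective h2)
  have hpos : 0 < Nat.card ↥Q₁ := Nat.card_pos
  have hpos2 : 0 < Nat.card ↥Q₂ := Nat.card_pos
  have hle : Nat.card ↥Q₂ ≤ 2 * Nat.card ↥(Q₂ ⊓ Q₁) :=
    Cfsg.Agent.Lib.Helper72.Sym.card_le_two_mul_inf' h2 h1 hpos hc1
  rw [inf_comm] at hle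
  have hdvd : Nat.card ↥(Q₁ ⊓ Q₂) ∣ Nat.card ↥Q₂ := Subgroup.card_dvd_of_le inf_le_right
  have hne' : Nat.card ↥(Q₁ ⊓ Q₂) ≠ Nat.card ↥Q₂ := by
    intro heq
    have h3 : Q₁ ⊓ Q₂ = Q₂ := Subgroup.eq_of_le_of_card_ge inf_le_right (le_of_eq heq.symm)
    have h4 : Q₂ ≤ Q₁ := by rw [← h3]; exact inf_le_left
    have h5 : Q₂ = Q₁ := Subgroup.eq_of_le_of_card_ge h4 (by omega)
    exact hne h5
  obtain ⟨m, hm⟩ := hdvd
  generalize Nat.card ↥(Q₁ ⊓ Q₂) = c at hm hle hne' ⊢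
  generalize Nat.card ↥Q₂ = q at hm hle hne' hpos2 ⊢
  rcases m with _ | _ | _ | m
  · simp at hm; omega
  · simp at hm; omega
  · omega
  · have h6 : c * 3 ≤ c * (m + 1 + 1 + 1) := Nat.mul_le_mul_left _ (by omega)
    have hc0 : 0 < c := by
      rcases Nat.eq_zero_or_pos c with h0 | h0
      · rw [h0] at hm; simp at hm; omega
      · exact h0
    omega

/-- The last step: a swap `p` with `B ≤ core_L(D ⊓ cj p D)` is impossible. -/
theorem final_step (hJ : LemJRel.{u}) {P₁ P₂ T Q₂ L D : Subgroup G} (hTP₁ : T ≤ P₁)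
    (a₂ : LAmal P₂ T Q₂) (z₂ : ZF P₂ T Q₂)
    (core : ∀ N : Subgroup G, N ≤ T → Nz P₁ N → Nz P₂ N → N = ⊥) (hD : Nz P₁ D)
    (aL : LAmal L Q₂ D) (zL : ZF L Q₂ D)
    {A : Subgroup G} (hAS : A ≤ Q₂) (hAel : Cfsg.IsElementaryAbelian 2 A)
    (hAmax : ∀ B : Subgroup G, B ≤ Q₂ → Cfsg.IsElementaryAbelian 2 B →
      Nat.card ↥B ≤ Nat.card ↥A)
    (hAD : ¬ A ≤ D) {p : G} (hp : p ∈ P₂) (hpT : p ∉ T)
    (i3 : ¬ Nz L (D ⊓ cj p D))
    (hB : ∀ h ∈ L, (A ⊓ D) ⊔ omZ D ≤ cj h (D ⊓ cj p D)) : False := by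
  haveI := aL.fin
  have hDS : D ≤ Q₂ := aL.hQT
  have hSL : Q₂ ≤ L := aL.hTH
  have hnLD : Nz L D := aL.hQn
  obtain ⟨z, hzS, hz2, hzc, h₀, hh₀, hh₀z⟩ := aL.hZ
  have hzD : z ∈ D := aL.hCQ z (hSL hzS) (fun d hd => hzc d (hDS hd))
  have hzV : z ∈ omZ D := ⟨hzD, fun d hd => (hzc d (hDS hd)).symm, hz2⟩
  have hz1 : z ≠ 1 := by
    rintro rfl
    exact hh₀z (by rw [mul_one, one_mul])
  -- the core `K`
  obtain ⟨K, hKD, hKD', hnK, hBK⟩ : ∃ K : Subgroup G, K ≤ D ∧ K ≤ cj p D ∧ Nz L K ∧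
      (A ⊓ D) ⊔ omZ D ≤ K := by
    have hKM : (⨅ h : ↥L, cj (h : G) (D ⊓ cj p D)) ≤ D ⊓ cj p D := by
      refine (iInf_le (fun h : ↥L => cj (h : G) (D ⊓ cj p D)) (1 : ↥L)).trans ?_
      show cj (1 : G) (D ⊓ cj p D) ≤ D ⊓ cj p D
      rw [cj_one]
    refine ⟨⨅ h : ↥L, cj (h : G) (D ⊓ cj p D), hKM.trans inf_le_left, hKM.trans inf_le_right,
      ?_, le_iInf (fun h => hB h h.2)⟩
    intro l hl k hk
    rw [Subgroup.mem_iInf] at hk ⊢
    intro h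
    have h1 := hk ⟨l⁻¹ * h, L.mul_mem (L.inv_mem hl) h.2⟩
    rw [mem_cj] at h1 ⊢
    have e : (h : G)⁻¹ * (l * k * l⁻¹) * (h : G) = (l⁻¹ * (h : G))⁻¹ * k * (l⁻¹ * (h : G)) := by
      group
    rw [e]; exact h1
  -- facts on `D' = cj p D`
  have hcjQ : cj p Q₂ = Q₂ := a₂.cjQ hp
  have hD'S : cj p D ≤ Q₂ := by
    calc cj p D ≤ cj p Q₂ := cj_mono hDS p
      _ = Q₂ := hcjQ
  have hconjS : ∀ s ∈ Q₂, p⁻¹ * s * p ∈ Q₂ := by
    intro s hs
    have := a₂.hQn p⁻¹ (P₂.inv_mem hp) s hs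
    rwa [inv_inv] at this
  have hnSD' : Nz Q₂ (cj p D) := by
    intro s hs d hd
    rw [mem_cj] at hd ⊢
    have h1 := hnLD _ (hSL (hconjS s hs)) _ hd
    have e : p⁻¹ * (s * d * s⁻¹) * p = (p⁻¹ * s * p) * (p⁻¹ * d * p) * (p⁻¹ * s * p)⁻¹ := by
      group
    rw [e]; exact h1
  have hmulD' : ∀ s ∈ Q₂, ∀ t ∈ Q₂, s ∉ cj p D → t ∉ cj p D → s * t ∈ cj p D := by
    intro s hs t ht hsD htD
    rw [mem_cj] at hsD htD ⊢
    have h1 := zL.mul_Q _ (hconjS s hs) _ (hconjS t ht) hsD htD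
    have e : p⁻¹ * (s * t) * p = (p⁻¹ * s * p) * (p⁻¹ * t * p) := by group
    rw [e]; exact h1
  -- `hgen`
  have hgen : ∀ N : Subgroup G, N ≤ L → Nz L N → D ⊓ cj p D ≤ N → D ≤ N := by
    intro N _ hnN hMN
    by_contra hcon
    apply i3
    have hND : ∀ x ∈ N, x ∈ D → x ∈ cj p D := by
      intro x hxN hxD
      by_contra hxD'
      apply hcon
      intro d hd
      by_cases hdD' : d ∈ cj p D
      · exact hMN (Subgroup.mem_inf.mpr ⟨hd, hdD'⟩)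
      · have h1 : d * x ∈ cj p D := hmulD' d (hDS hd) x (hDS hxD) hdD' hxD'
        have h2 : d * x ∈ N := hMN (Subgroup.mem_inf.mpr ⟨D.mul_mem hd hxD, h1⟩)
        have e : d = d * x * x⁻¹ := by group
        rw [e]; exact N.mul_mem h2 (N.inv_mem hxN)
    intro l hl m hm
    have hmN : m ∈ N := hMN hm
    have h1 : l * m * l⁻¹ ∈ N := hnN l hl m hmN
    have h2 : l * m * l⁻¹ ∈ D := hnLD l hl m (Subgroup.mem_inf.mp hm).1
    exact Subgroup.mem_inf.mpr ⟨h2, hND _ h1 h2⟩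
  -- `C_L(V) ≤ D`
  have hCV : ∀ x ∈ L, (∀ v ∈ omZ D, x * v = v * x) → x ∈ D := by
    intro x hxL hxc
    by_contra hxD
    by_cases hCS : ∀ y ∈ L, (∀ v ∈ omZ D, y * v = v * y) → y ∈ Q₂
    · obtain ⟨l, hl, t, ht, hnot⟩ := aL.hTn
      apply hnot
      have hxS : x ∈ Q₂ := hCS x hxL hxc
      by_cases htD : t ∈ D
      · exact hDS (hnLD l hl t htD)
      · have h1 : t * x ∈ D := zL.mul_Q t ht x hxS htD hxD
        have h2 : l * (t * x) * l⁻¹ ∈ Q₂ := hDS (hnLD l hl _ h1)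
        have h3 : l * x * l⁻¹ ∈ Q₂ := by
          apply hCS _ (L.mul_mem (L.mul_mem hl hxL) (L.inv_mem hl))
          intro v hv
          have hv' : l⁻¹ * v * l ∈ omZ D := by
            have := nz_omZ hnLD l⁻¹ (L.inv_mem hl) v hv
            rwa [inv_inv] at this
          have e := hxc _ hv'
          calc l * x * l⁻¹ * v = l * (x * (l⁻¹ * v * l)) * l⁻¹ := by group
            _ = l * ((l⁻¹ * v * l) * x) * l⁻¹ := by rw [e]
            _ = v * (l * x * l⁻¹) := by group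
        have e : l * t * l⁻¹ = (l * (t * x) * l⁻¹) * (l * x * l⁻¹)⁻¹ := by group
        rw [e]; exact Q₂.mul_mem h2 (Q₂.inv_mem h3)
    · push_neg at hCS
      obtain ⟨y, hyL, hyc, hyS⟩ := hCS
      have hSK : Q₂ ≤ L ⊓ Subgroup.centralizer ({z} : Set G) := by
        intro s hs
        refine Subgroup.mem_inf.mpr ⟨hSL hs, ?_⟩
        rw [Subgroup.mem_centralizer_iff]
        intro w hw
        rw [Set.mem_singleton_iff.mp hw]
        exact hzc s hs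
      rcases zL.maxT _ hSK inf_le_left with h | h
      · apply hyS
        rw [← h]
        refine Subgroup.mem_inf.mpr ⟨hyL, ?_⟩
        rw [Subgroup.mem_centralizer_iff]
        intro w hw
        rw [Set.mem_singleton_iff.mp hw]
        exact (hyc z hzV).symm
      · have hh : h₀ ∈ L ⊓ Subgroup.centralizer ({z} : Set G) := by rw [h]; exact hh₀
        have h2 := (Subgroup.mem_inf.mp hh).2
        rw [Subgroup.mem_centralizer_iff] at h2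
        exact hh₀z (h2 z (Set.mem_singleton z)).symm
  -- Lemma J
  have hgex : ∃ g ∈ L, cj g Q₂ ≠ Q₂ := by
    obtain ⟨l, hl, t, ht, hnot⟩ := aL.hTn
    refine ⟨l, hl, fun heq => hnot ?_⟩
    rw [← heq]; exact conj_mem_cj ht
  have hVV : omZ (cj p D) ≤ omZ D :=
    hJ L Q₂ D (cj p D) K A (omZ D) (omZ (cj p D)) aL hgex (fun _ => Iff.rfl) hCV hD'S hnSD'
      (fun _ => Iff.rfl) hgen hKD hKD' hnK hAS hAel hAmax hAD hBK
  rw [omZ_cj] at hVV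
  haveI hVfin : Finite ↥(omZ D) :=
    Finite.of_injective _ (Subgroup.inclusion_injective ((omZ_le D).trans (hDS.trans hSL)))
  have hVeq : cj p (omZ D) = omZ D :=
    Subgroup.eq_of_le_of_card_ge hVV (le_of_eq (card_cj p _).symm)
  have hpN : p ∈ Subgroup.normalizer ((omZ D : Subgroup G) : Set G) := by
    rw [Subgroup.mem_normalizer_iff]
    intro v
    constructor
    · intro hv
      have := conj_mem_cj (g := p) hv
      rwa [hVeq] at this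
    · intro hv
      rw [← hVeq, mem_cj] at hv
      have e : p⁻¹ * (p * v * p⁻¹) * p = v := by group
      rwa [e] at hv
  have hnV₁ : Nz P₁ (omZ D) := nz_omZ hD
  have hnVT : Nz T (omZ D) := fun t ht v hv => hnV₁ t (hTP₁ ht) v hv
  have hnV₂ : Nz P₂ (omZ D) := nz_of_maxT a₂.hTH z₂.maxT hnVT hp hpT hpN
  have hVT : omZ D ≤ T := (omZ_le D).trans (hDS.trans a₂.hQT)
  have hVbot := core _ hVT hnV₁ hnV₂
  rw [hVbot, Subgroup.mem_bot] at hzV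
  exact hz1 hzV

/-- Claim (N) from the packages. -/
theorem claimN_of_pkgs (hZL : PkgZL.{u}) (hNL1 : PkgNL1.{u}) (hNL2 : PkgNL2.{u})
    (hNZ : PkgNZ.{u}) (hNA : PkgNA.{u}) (hNB : PkgNB.{u}) (hPair : PairAll.{u})
    (hJ : LemJRel.{u}) : Cfsg.Agent.Lib.Helper45.S3Amal.ClaimN.{u} := by
  intro n IH G _ P₁ P₂ T Q₁ Q₂ a₁ a₂ core hcard hD
  haveI := a₁.fin
  haveI := a₂.fin
  have z₁ := hZL P₁ T Q₁ a₁
  have z₂ := hZL P₂ T Q₂ a₂
  haveI hTfin : Finite ↥T := Finite.of_injective _ (Subgroup.inclusion_injective a₁.hTH)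
  haveI hQ₂fin : Finite ↥Q₂ := Finite.of_injective _ (Subgroup.inclusion_injective a₂.hQT)
  have hQ₂ne : Q₂ ≠ ⊥ := by
    obtain ⟨z, hzT, hz2, hzc, h, hh, hhz⟩ := a₂.hZ
    have hzQ : z ∈ Q₂ := a₂.hCQ z (a₂.hTH hzT) (fun q hq => hzc q (a₂.hQT hq))
    intro hbot
    rw [hbot, Subgroup.mem_bot] at hzQ
    rw [hzQ] at hhz
    exact hhz (by rw [mul_one, one_mul])
  have hne : Q₂ ≠ Q₁ := by
    intro heq
    apply hQ₂ne
    refine core Q₂ a₂.hQT ?_ a₂.hQn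
    rw [heq]; exact a₁.hQn
  obtain ⟨L, hSL, hLP, hnL, hLcard, hLQ⟩ := hNL1 P₁ T Q₁ Q₂ a₁ z₁ a₂.hQT a₂.hTQ hne hD
  haveI : Finite ↥L := Finite.of_injective _ (Subgroup.inclusion_injective hLP)
  have hcD : Nat.card ↥Q₂ = 2 * Nat.card ↥(Q₁ ⊓ Q₂) :=
    card_eq_two_mul_inf a₁.hQT a₂.hQT a₁.hTQ a₂.hTQ hne
  have hQ₂pos : 0 < Nat.card ↥Q₂ := Nat.card_pos
  have hLT : ∃ x ∈ L, x ∉ T := by
    by_contra hcon
    push_neg at hcon
    have hle : L ≤ T := hcon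
    have h1 := Subgroup.card_le_of_le hle
    have h2 := a₂.hTQ
    omega
  have hSnn : ∃ h ∈ L, ∃ t ∈ Q₂, h * t * h⁻¹ ∉ Q₂ := by
    by_contra hcon
    push_neg at hcon
    obtain ⟨x, hxL, hxT⟩ := hLT
    have hTQ₂ : Nz T Q₂ := fun t ht q hq => a₂.hQn t (a₂.hTH ht) q hq
    have hP₁ : Nz P₁ Q₂ := nz_of_maxT a₁.hTH z₁.maxT hTQ₂ (hLP hxL) hxT
      (Cfsg.Agent.Lib.Helper59.Amal.le_normalizer_of_conj_mem hcon hxL)
    exact hQ₂ne (core Q₂ a₂.hQT hP₁ a₂.hQn)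
  have aL : LAmal L Q₂ (Q₁ ⊓ Q₂) :=
    { fin := inferInstance
      hQT := inf_le_right
      hTH := hSL
      hQn := fun h hh q hq => hD h (hLP hh) q hq
      hT2 := a₂.hT2.to_le a₂.hQT
      hTQ := hcD
      hHT := hLcard
      hTn := hSnn
      hCQ := hNL2 P₁ T Q₁ Q₂ L a₁ z₁ a₂.hQT a₂.hTQ hne hD hSL hLP hnL hLcard hLQ
      hZ := hNZ P₁ P₂ T Q₁ Q₂ L a₁ a₂ z₁ z₂ core hSL hLP hLcard }
  have zL := hZL L Q₂ (Q₁ ⊓ Q₂) aL
  have ctx : NCtx P₁ P₂ T Q₁ Q₂ L := ⟨a₁, a₂, z₁, z₂, core, hD, hSL, hLP, hnL, aL, zL⟩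
  have hlt : Nat.card ↥Q₂ < n := by
    have := a₂.hTQ
    omega
  obtain ⟨p, hp, p', hp', hpT, hp'T, hpp'⟩ := z₂.two_cosets
  have pair1 := hPair n IH P₁ P₂ T Q₁ Q₂ L ctx hlt 1 P₂.one_mem p hp (by simpa using hpT)
  have pair2 := hPair n IH P₁ P₂ T Q₁ Q₂ L ctx hlt 1 P₂.one_mem p' hp' (by simpa using hp'T)
  have pair3 := hPair n IH P₁ P₂ T Q₁ Q₂ L ctx hlt p hp p' hp' hpp'
  rw [cj_one, cj_one] at pair1 pair2
  obtain ⟨A, hAS, hAel, hAmax, hAD⟩ := hNA P₁ P₂ T Q₁ Q₂ a₁ a₂ core hD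
  -- `B = (A ⊓ D) ⊔ Ω₁Z(D)` lies in `D` and has exponent `2`
  have hBD : (A ⊓ (Q₁ ⊓ Q₂)) ⊔ omZ (Q₁ ⊓ Q₂) ≤ Q₁ ⊓ Q₂ := sup_le inf_le_right (omZ_le _)
  have hAV : ∀ a ∈ A ⊓ (Q₁ ⊓ Q₂), ∀ v ∈ omZ (Q₁ ⊓ Q₂), a * v = v * a :=
    fun a ha v hv => hv.2.1 a (Subgroup.mem_inf.mp ha).2
  have hBcomm : ∀ x ∈ (A ⊓ (Q₁ ⊓ Q₂)) ⊔ omZ (Q₁ ⊓ Q₂),
      ∀ y ∈ (A ⊓ (Q₁ ⊓ Q₂)) ⊔ omZ (Q₁ ⊓ Q₂), x * y = y * x := by
    have hE : (A ⊓ (Q₁ ⊓ Q₂)) ⊔ omZ (Q₁ ⊓ Q₂) ≤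
        Subgroup.centralizer ((A ⊓ (Q₁ ⊓ Q₂) : Subgroup G) : Set G) ⊓
          Subgroup.centralizer ((omZ (Q₁ ⊓ Q₂) : Subgroup G) : Set G) := by
      refine sup_le ?_ ?_
      · intro a ha
        refine Subgroup.mem_inf.mpr ⟨?_, ?_⟩
        · rw [Subgroup.mem_centralizer_iff]
          intro b hb
          exact Cfsg.Agent.Lib.Helper45.S3Amal.elab_comm hAel (Subgroup.mem_inf.mp hb).1
            (Subgroup.mem_inf.mp ha).1
        · rw [Subgroup.mem_centralizer_iff]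
          intro v hv
          exact (hAV a ha v hv).symm
      · intro v hv
        refine Subgroup.mem_inf.mpr ⟨?_, ?_⟩
        · rw [Subgroup.mem_centralizer_iff]
          intro a ha
          exact hAV a ha v hv
        · rw [Subgroup.mem_centralizer_iff]
          intro w hw
          exact hv.2.1 w hw.1
    intro x hx y hy
    have hx' := hE hx
    have hy2 : y ∈ Subgroup.centralizer ({x} : Set G) := by
      have hle : (A ⊓ (Q₁ ⊓ Q₂)) ⊔ omZ (Q₁ ⊓ Q₂) ≤ Subgroup.centralizer ({x} : Set G) := by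
        refine sup_le ?_ ?_
        · intro a ha
          rw [Subgroup.mem_centralizer_iff]
          intro w hw
          rw [Set.mem_singleton_iff.mp hw]
          have := (Subgroup.mem_inf.mp hx').1
          rw [Subgroup.mem_centralizer_iff] at this
          exact (this a ha).symm
        · intro v hv
          rw [Subgroup.mem_centralizer_iff]
          intro w hw
          rw [Set.mem_singleton_iff.mp hw]
          have := (Subgroup.mem_inf.mp hx').2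
          rw [Subgroup.mem_centralizer_iff] at this
          exact (this v hv).symm
      exact hle hy
    rw [Subgroup.mem_centralizer_iff] at hy2
    exact hy2 x (Set.mem_singleton x)
  have hB2 : ∀ b ∈ (A ⊓ (Q₁ ⊓ Q₂)) ⊔ omZ (Q₁ ⊓ Q₂), b * b = 1 := by
    let F : Subgroup G :=
      { carrier := {x | x ∈ (A ⊓ (Q₁ ⊓ Q₂)) ⊔ omZ (Q₁ ⊓ Q₂) ∧ x * x = 1}
        mul_mem' := by
          rintro a b ⟨ha, ha2⟩ ⟨hb, hb2⟩
          refine ⟨Subgroup.mul_mem _ ha hb, ?_⟩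
          have hab : b * a = a * b := hBcomm b hb a ha
          calc a * b * (a * b) = a * (b * a) * b := by group
            _ = a * (a * b) * b := by rw [hab]
            _ = (a * a) * (b * b) := by group
            _ = 1 := by rw [ha2, hb2, one_mul]
        one_mem' := ⟨Subgroup.one_mem _, by rw [one_mul]⟩
        inv_mem' := by
          rintro a ⟨ha, ha2⟩
          have hinv : a⁻¹ = a := by
            rw [inv_eq_iff_mul_eq_one]; exact ha2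
          rw [hinv]; exact ⟨ha, ha2⟩ }
    have hF : (A ⊓ (Q₁ ⊓ Q₂)) ⊔ omZ (Q₁ ⊓ Q₂) ≤ F := by
      refine sup_le ?_ ?_
      · intro a ha
        exact ⟨le_sup_left (a := A ⊓ (Q₁ ⊓ Q₂)) ha,
          Cfsg.Agent.Lib.Helper45.S3Amal.elab_sq hAel (Subgroup.mem_inf.mp ha).1⟩
      · intro v hv
        exact ⟨le_sup_right (b := omZ (Q₁ ⊓ Q₂)) hv, hv.2.2⟩
    intro b hb
    exact (hF hb).2
  have hD₂S : cj p (Q₁ ⊓ Q₂) ≤ Q₂ := by
    calc cj p (Q₁ ⊓ Q₂) ≤ cj p Q₂ := cj_mono inf_le_right p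
      _ = Q₂ := a₂.cjQ hp
  have hD₃S : cj p' (Q₁ ⊓ Q₂) ≤ Q₂ := by
    calc cj p' (Q₁ ⊓ Q₂) ≤ cj p' Q₂ := cj_mono inf_le_right p'
      _ = Q₂ := a₂.cjQ hp'
  rcases hNB L Q₂ (Q₁ ⊓ Q₂) (cj p (Q₁ ⊓ Q₂)) (cj p' (Q₁ ⊓ Q₂)) _ aL zL hD₂S hD₃S pair3.i1
      pair1.i2 pair2.i2 hBD hB2 with hcase | hcase
  · exact final_step hJ a₁.hTH a₂ z₂ core hD aL zL hAS hAel hAmax hAD hp hpT pair1.i3 hcase
  · exact final_step hJ a₁.hTH a₂ z₂ core hD aL zL hAS hAel hAmax hAD hp' hp'T pair2.i3 hcase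

end Cfsg.Agent.Lib.Helper2.Amal
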